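/-
The orthogonal group of plus type in dimension four over two elements, by computation.
-/
import Cfsg.Agent.Lib.MacWilliams.Endo

set_option autoImplicit false
set_option synthInstance.maxSize 4000
set_option synthInstance.maxHeartbeats 200000

namespace CfsgLib.ExtraRank

open CfsgLib.MacWilliams

/-- Two four-groups. -/
abbrev V4 : Type := V2 × V2

/-- The anisotropic form on a four-group. -/
def nn (u : V2) : ZMod 2 := u.1 + u.2 + u.1 * u.2

/-- The quadratic form. -/
def qq (v : V4) : ZMod 2 := nn v.1 + nn v.2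

/-- Its polar form. -/
def bf (v w : V4) : ZMod 2 := qq (v + w) + qq v + qq w

/-- Parameters of isometries: two matrices and whether the factors are exchanged. -/
abbrev Par : Type := M4 × M4 × Bool

/-- A parameter is valid. -/
def Ok (p : Par) : Prop := MacWilliams.Inv p.1 ∧ MacWilliams.Inv p.2.1

instance : DecidablePred Ok := fun p => inferInstanceAs (Decidable (_ ∧ _))

/-- The valid parameters. -/
abbrev Iso : Type := {p : Par // Ok p}

/-- The action. -/
def act (g : Iso) (v : V4) : V4 :=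
  if g.1.2.2 then (app g.1.1 v.2, app g.1.2.1 v.1) else (app g.1.1 v.1, app g.1.2.1 v.2)

/-- The linear map with given images of the basis. -/
def lin (a b c d : V4) (v : V4) : V4 :=
  ((v.1.1 * a.1.1 + v.1.2 * b.1.1 + v.2.1 * c.1.1 + v.2.2 * d.1.1,
    v.1.1 * a.1.2 + v.1.2 * b.1.2 + v.2.1 * c.1.2 + v.2.2 * d.1.2),
   (v.1.1 * a.2.1 + v.1.2 * b.2.1 + v.2.1 * c.2.1 + v.2.2 * d.2.1,
    v.1.1 * a.2.2 + v.1.2 * b.2.2 + v.2.1 * c.2.2 + v.2.2 * d.2.2))

theorem complete : ∀ a, qq a = 1 → ∀ b, qq b = 1 → qq (a + b) = 1 → ∀ c, qq c = 1 → qq (a + c) = 0 →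
    qq (b + c) = 0 → ∀ d, qq d = 1 → qq (a + d) = 0 → qq (b + d) = 0 → qq (c + d) = 1 →
    ∃ g : Iso, ∀ v, act g v = lin a b c d v := by decide +kernel

theorem basis_facts : qq ((1, 0), 0) = 1 ∧ qq ((0, 1), 0) = 1 ∧ qq (((1, 0), 0) + ((0, 1), 0)) = 1 ∧
    qq (0, (1, 0)) = 1 ∧ qq (((1, 0), 0) + (0, (1, 0))) = 0 ∧ qq (((0, 1), 0) + (0, (1, 0))) = 0 ∧
    qq (0, (0, 1)) = 1 ∧ qq (((1, 0), 0) + (0, (0, 1))) = 0 ∧ qq (((0, 1), 0) + (0, (0, 1))) = 0 ∧
    qq ((0, (1, 0)) + (0, (0, 1))) = 1 := by decide +kernel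

theorem act_inj : ∀ g h : Iso, (∀ v, act g v = act h v) → g = h := by decide +kernel

theorem act_bij : ∀ (g : Iso) (v w : V4), act g v = act g w → v = w := by decide +kernel

theorem card_iso : Fintype.card Iso = 72 := by decide +kernel

theorem decompose : ∀ v : V4, v = lin ((1, 0), 0) ((0, 1), 0) (0, (1, 0)) (0, (0, 1)) v := by decide +kernel

theorem bf_nondeg : ∀ v, (∀ w, bf v w = 0) → v = 0 := by decide +kernel

theorem bf_surj : ∀ a b c d : ZMod 2, ∃ w, bf w ((1, 0), 0) = a ∧ bf w ((0, 1), 0) = b ∧ bf w (0, (1, 0)) = c ∧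
    bf w (0, (0, 1)) = d := by decide +kernel

/-- No three independent vectors span a totally singular space. -/
theorem no_singular_three : ∀ a, qq a = 0 → a ≠ 0 → ∀ b, qq b = 0 → qq (a + b) = 0 → b ≠ 0 → b ≠ a →
    ∀ c, qq c = 0 → qq (a + c) = 0 → qq (b + c) = 0 → qq (a + b + c) = 0 → c = 0 ∨ c = a ∨ c = b ∨ c = a + b := by
  decide +kernel

/-- An isometry moving vectors along one singular vector is trivial. -/
theorem no_singular_transvection : ∀ a, qq a = 0 → ∀ g : Iso, (∀ v, act g v + v = 0 ∨ act g v + v = a) →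
    ∀ v, act g v = v := by decide +kernel

/-- Moving along one vector determines the isometry. -/
theorem one_center : ∀ a, ∀ g : Iso, (∀ v, act g v + v = 0 ∨ act g v + v = a) → (∃ v, act g v ≠ v) →
    ∀ h : Iso, (∀ v, act h v + v = 0 ∨ act h v + v = a) → (∃ v, act h v ≠ v) → g = h := by decide +kernel

/-- Fixing a totally singular plane determines the isometry. -/
theorem one_plane : ∀ p, qq p = 0 → p ≠ 0 → ∀ r, qq r = 0 → qq (p + r) = 0 → r ≠ 0 → r ≠ p →
    ∀ g : Iso, act g p = p → act g r = r → (∃ v, act g v ≠ v) →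
    ∀ h : Iso, act h p = p → act h r = r → (∃ v, act h v ≠ v) → g = h := by decide +kernel

/-- Nothing more is fixed. -/
theorem plane_plus : ∀ p, qq p = 0 → p ≠ 0 → ∀ r, qq r = 0 → qq (p + r) = 0 → r ≠ 0 → r ≠ p →
    ∀ g : Iso, act g p = p → act g r = r → ∀ d, act g d = d → d ≠ 0 → d ≠ p → d ≠ r → d ≠ p + r →
    ∀ v, act g v = v := by decide +kernel

/-- Fixing eight vectors determines the isometry. -/
theorem one_axis : ∀ g : Iso, (∃ v, act g v ≠ v) → ∀ h : Iso, (∃ v, act h v ≠ v) →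
    8 ≤ (Finset.univ.filter fun v => act g v = v ∧ act h v = v).card → g = h := by decide +kernel

/-- No elementary abelian group of order eight. -/
theorem no_eight : ∀ g : Iso, (∀ v, act g (act g v) = v) → ∀ h : Iso, (∀ v, act h (act h v) = v) →
    (∀ v, act g (act h v) = act h (act g v)) → ∀ k : Iso, (∀ v, act k (act k v) = v) →
    (∀ v, act g (act k v) = act k (act g v)) → (∀ v, act h (act k v) = act k (act h v)) →
    (∀ v, act g v = v) ∨ (∀ v, act h v = v) ∨ g = h ∨ (∀ v, act k v = v) ∨ k = g ∨ k = h ∨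
      ∀ v, act k v = act g (act h v) := by decide +kernel

end CfsgLib.ExtraRank
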