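/-
A central product of two quaternion groups, in coordinates.
-/
import Cfsg.Agent.Lib.ExtraRank.Forms

set_option autoImplicit false

namespace CfsgLib.ExtraRank

open Subgroup CfsgLib.MacWilliams

universe u

theorem act_add (g : Iso) (v w : V4) : act g (v + w) = act g v + act g w := by
  unfold act
  split <;> simp [Prod.fst_add, Prod.snd_add, app_add_right]

theorem act_qq : ∀ (g : Iso) (v : V4), qq (act g v) = qq v := by decide +kernel

theorem lin_add (a b c d v w : V4) : lin a b c d (v + w) = lin a b c d v + lin a b c d w := by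
  unfold lin
  ext <;> simp [Prod.fst_add, Prod.snd_add] <;> ring

theorem v4_self_add : ∀ v : V4, v + v = 0 := by decide +kernel

theorem v4_basis_zero : ∀ a b c d : V4, lin a b c d 0 = 0 ∧ lin a b c d ((1, 0), 0) = a ∧
    lin a b c d ((0, 1), 0) = b ∧ lin a b c d (0, (1, 0)) = c ∧ lin a b c d (0, (0, 1)) = d := by
  intro a b c d
  simp [lin]

theorem zmod_two_cases : ∀ a : ZMod 2, a = 0 ∨ a = 1 := by decide

/-- A predicate closed under sums holds everywhere if it holds on the basis. -/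
theorem v4_induction {P : V4 → Prop} (h0 : P 0) (hadd : ∀ v w, P v → P w → P (v + w)) (h1 : P ((1, 0), 0))
    (h2 : P ((0, 1), 0)) (h3 : P (0, (1, 0))) (h4 : P (0, (0, 1))) (v : V4) : P v := by
  have hu : ∀ u : V2, P (u, 0) ∧ P (0, u) := by
    intro u
    rcases v2_cases u with rfl | rfl | rfl | rfl
    · exact ⟨h0, h0⟩
    · exact ⟨h1, h3⟩
    · exact ⟨h2, h4⟩
    · have e1 := hadd _ _ h1 h2
      have e2 := hadd _ _ h3 h4
      simp only [Prod.mk_add_mk, add_zero, zero_add] at e1 e2 ⊢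
      exact ⟨e1, e2⟩
  have := hadd _ _ (hu v.1).1 (hu v.2).2
  simpa using this

/-- The orthogonal group. -/
def orth : Subgroup (Equiv.Perm V4) where
  carrier := {σ | (∀ v w, σ (v + w) = σ v + σ w) ∧ ∀ v, qq (σ v) = qq v}
  one_mem' := ⟨fun _ _ => rfl, fun _ => rfl⟩
  mul_mem' := fun {a b} ha hb => ⟨fun v w => by simp [hb.1, ha.1], fun v => by simp [ha.2, hb.2]⟩
  inv_mem' := fun {a} ha => ⟨fun v w => a.injective (by simp [ha.1]), fun v => by
    conv_rhs => rw [← Equiv.apply_symm_apply a v]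
    exact (ha.2 _).symm⟩

theorem exists_iso {σ : Equiv.Perm V4} (hσ : σ ∈ orth) : ∃ g : Iso, ∀ v, σ v = act g v := by
  obtain ⟨b1, b2, b3, b4, b5, b6, b7, b8, b9, b10⟩ := basis_facts
  have key : ∀ v w, qq (σ v + σ w) = qq (v + w) := fun v w => by rw [← hσ.1, hσ.2]
  obtain ⟨g, hg⟩ := complete _ ((hσ.2 _).trans b1) _ ((hσ.2 _).trans b2) ((key _ _).trans b3) _ ((hσ.2 _).trans b4)
    ((key _ _).trans b5) ((key _ _).trans b6) _ ((hσ.2 _).trans b7) ((key _ _).trans b8) ((key _ _).trans b9)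
    ((key _ _).trans b10)
  refine ⟨g, fun v => ?_⟩
  obtain ⟨e0, e1, e2, e3, e4⟩ := v4_basis_zero (σ ((1, 0), 0)) (σ ((0, 1), 0)) (σ (0, (1, 0))) (σ (0, (0, 1)))
  rw [hg]
  refine v4_induction (P := fun v => σ v = lin (σ ((1, 0), 0)) (σ ((0, 1), 0)) (σ (0, (1, 0))) (σ (0, (0, 1))) v) ?_ (fun v w hv hw => ?_) e1.symm e2.symm e3.symm e4.symm v
  · have h := hσ.1 0 0
    rw [add_zero] at h
    rw [e0, h, v4_self_add]
  · rw [hσ.1, lin_add, hv, hw]

theorem card_orth : Nat.card orth = 72 := by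
  have hb : ∀ g : Iso, Function.Bijective (act g) := fun g => Finite.injective_iff_bijective.1 (act_bij g)
  let e : Iso → orth := fun g => ⟨Equiv.ofBijective (act g) (hb g), act_add g, act_qq g⟩
  have he : Function.Bijective e := by
    refine ⟨fun g h hgh => act_inj g h fun v => ?_, fun σ => ?_⟩
    · exact congrArg (fun τ : orth => τ.1 v) hgh
    · obtain ⟨g, hg⟩ := exists_iso σ.2
      exact ⟨g, Subtype.ext (Equiv.ext fun v => (hg v).symm)⟩
  rw [← Nat.card_eq_of_bijective e he, Nat.card_eq_fintype_card, card_iso]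

variable {S : Type u} [Group S]

/-- A central product of two quaternion groups. -/
structure Setup (Q : Subgroup S) (z i₁ j₁ i₂ j₂ : S) : Prop where
  hS : IsPGroup 2 S
  hQ32 : Nat.card Q = 32
  hC : centralizer (Q : Set S) ≤ Q
  zz : z * z = 1
  z1 : z ≠ 1
  zc : z ∈ center S
  mem : z ∈ Q ∧ i₁ ∈ Q ∧ j₁ ∈ Q ∧ i₂ ∈ Q ∧ j₂ ∈ Q
  ii₁ : i₁ * i₁ = z
  jj₁ : j₁ * j₁ = z
  ji₁ : j₁ * i₁ = i₁ * j₁ * z
  ii₂ : i₂ * i₂ = z
  jj₂ : j₂ * j₂ = z
  ji₂ : j₂ * i₂ = i₂ * j₂ * z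
  comm : i₁ * i₂ = i₂ * i₁ ∧ i₁ * j₂ = j₂ * i₁ ∧ j₁ * i₂ = i₂ * j₁ ∧ j₁ * j₂ = j₂ * j₁
  gen : Q ≤ closure {z, i₁, j₁, i₂, j₂}

/-- The element of a quaternion group with given coordinates. -/
def part (i j : S) (u : V2) : S := i ^ u.1.val * j ^ u.2.val

/-- The element with given coordinates. -/
def rep (i₁ j₁ i₂ j₂ : S) (v : V4) : S := part i₁ j₁ v.1 * part i₂ j₂ v.2

/-- A power of the central involution. -/
def zb (z : S) (a : ZMod 2) : S := z ^ a.val

theorem zb_zero (z : S) : zb z 0 = 1 := by simp [zb]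

theorem zb_one (z : S) : zb z 1 = z := by simp [zb, ZMod.val_one]

/-- An element lies in the coset of given coordinates. -/
def R (z i₁ j₁ i₂ j₂ : S) (x : S) (v : V4) : Prop := ∃ a : ZMod 2, x = rep i₁ j₁ i₂ j₂ v * zb z a

section

variable {z : S} (hz : z * z = 1)
include hz

theorem zb_add (a b : ZMod 2) : zb z (a + b) = zb z a * zb z b := by
  rcases zmod_two_cases a with rfl | rfl <;> rcases zmod_two_cases b with rfl | rfl <;>
    simp [zb, show ((1 : ZMod 2) + 1) = 0 by decide, ZMod.val_one, hz]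

theorem zb_inv (a : ZMod 2) : (zb z a)⁻¹ = zb z a := by
  refine inv_eq_of_mul_eq_one_right ?_
  rw [← zb_add hz, show a + a = 0 by rcases zmod_two_cases a with rfl | rfl <;> decide, zb_zero]

theorem part_mul {i j : S} (hc : ∀ g : S, g * z = z * g) (hi : i * i = z) (hj : j * j = z) (hji : j * i = i * j * z)
    (u u' : V2) : ∃ a : ZMod 2, part i j u * part i j u' = part i j (u + u') * zb z a := by
  have hji' : ∀ g, j * (i * g) = i * (j * (z * g)) := fun g => by rw [← mul_assoc, hji, mul_assoc, mul_assoc]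
  have hi' : ∀ g, i * (i * g) = z * g := fun g => by rw [← mul_assoc, hi]
  have hj' : ∀ g, j * (j * g) = z * g := fun g => by rw [← mul_assoc, hj]
  have hz' : ∀ g, z * (z * g) = g := fun g => by rw [← mul_assoc, hz, one_mul]
  have hzi : z * i = i * z := (hc i).symm
  have hzj : z * j = j * z := (hc j).symm
  have hzi' : ∀ g, z * (i * g) = i * (z * g) := fun g => by rw [← mul_assoc, hzi, mul_assoc]
  have hzj' : ∀ g, z * (j * g) = j * (z * g) := fun g => by rw [← mul_assoc, hzj, mul_assoc]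
  have e11 : ((1 : ZMod 2) + 1) = 0 := by decide
  rcases zmod_two_cases u.1 with e1 | e1 <;> rcases zmod_two_cases u.2 with e2 | e2 <;>
    rcases zmod_two_cases u'.1 with e3 | e3 <;> rcases zmod_two_cases u'.2 with e4 | e4 <;>
    first
    | (refine ⟨0, ?_⟩
       simp [part, zb, Prod.fst_add, Prod.snd_add, e1, e2, e3, e4, e11, ZMod.val_one, mul_assoc, hi, hj, hji, hji',
         hi', hj', hz, hz', hzi, hzj, hzi', hzj']
       done)
    | (refine ⟨1, ?_⟩
       simp [part, zb, Prod.fst_add, Prod.snd_add, e1, e2, e3, e4, e11, ZMod.val_one, mul_assoc, hi, hj, hji, hji',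
         hi', hj', hz, hz', hzi, hzj, hzi', hzj'])

theorem part_sq {i j : S} (hc : ∀ g : S, g * z = z * g) (hi : i * i = z) (hj : j * j = z) (hji : j * i = i * j * z)
    (u : V2) : part i j u * part i j u = zb z (nn u) := by
  rcases v2_cases u with rfl | rfl | rfl | rfl
  · simp [part, nn, zb]
  · simp [part, nn, zb, ZMod.val_one, hi]
  · simp [part, nn, zb, ZMod.val_one, hj]
  · simp only [part, nn, Prod.mk_add_mk, add_zero, zero_add, ZMod.val_one, pow_one]
    rw [show ((1 : ZMod 2) + 1 + 1 * 1) = 1 by decide, zb_one, show i * j * (i * j) = i * (j * i) * j by group, hji,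
      show i * (i * j * z) * j = i * i * (j * z) * j by group, hc j, hi, ← mul_assoc, hz, one_mul, hj]

end

namespace Setup

variable {Q : Subgroup S} {z i₁ j₁ i₂ j₂ : S} (h : Setup Q z i₁ j₁ i₂ j₂)
include h

theorem z_comm (g : S) : g * z = z * g := mem_center_iff.1 h.zc g

theorem zb_comm (a : ZMod 2) (g : S) : g * zb z a = zb z a * g :=
  (Commute.pow_right (show Commute g z from h.z_comm g) a.val).eq

theorem cross (u u' : V2) : Commute (part i₁ j₁ u) (part i₂ j₂ u') := by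
  obtain ⟨c1, c2, c3, c4⟩ := h.comm
  exact ((Commute.pow_pow c1 _ _).mul_right (Commute.pow_pow c2 _ _)).mul_left
    ((Commute.pow_pow c3 _ _).mul_right (Commute.pow_pow c4 _ _))

theorem rep_mem (v : V4) : rep i₁ j₁ i₂ j₂ v ∈ Q :=
  mul_mem (mul_mem (pow_mem h.mem.2.1 _) (pow_mem h.mem.2.2.1 _))
    (mul_mem (pow_mem h.mem.2.2.2.1 _) (pow_mem h.mem.2.2.2.2 _))

theorem rmem {x : S} {v : V4} (hx : R z i₁ j₁ i₂ j₂ x v) : x ∈ Q := by
  obtain ⟨a, rfl⟩ := hx
  exact mul_mem (h.rep_mem v) (pow_mem h.mem.1 _)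

omit h in
theorem r_rep (v : V4) : R z i₁ j₁ i₂ j₂ (rep i₁ j₁ i₂ j₂ v) v := ⟨0, by rw [zb_zero, mul_one]⟩

omit h in
theorem r_one : R z i₁ j₁ i₂ j₂ 1 0 := ⟨0, by simp [rep, part, zb_zero]⟩

theorem r_z : R z i₁ j₁ i₂ j₂ z 0 := ⟨1, by simp [rep, part, zb_one]⟩

theorem r_zmul {x : S} {v : V4} (a : ZMod 2) (hx : R z i₁ j₁ i₂ j₂ x v) : R z i₁ j₁ i₂ j₂ (x * zb z a) v := by
  obtain ⟨b, rfl⟩ := hx
  exact ⟨b + a, by rw [zb_add h.zz, mul_assoc]⟩

theorem r_mul {x y : S} {v w : V4} (hx : R z i₁ j₁ i₂ j₂ x v) (hy : R z i₁ j₁ i₂ j₂ y w) :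
    R z i₁ j₁ i₂ j₂ (x * y) (v + w) := by
  obtain ⟨a, rfl⟩ := hx
  obtain ⟨b, rfl⟩ := hy
  obtain ⟨c₁, e₁⟩ := part_mul h.zz h.z_comm h.ii₁ h.jj₁ h.ji₁ v.1 w.1
  obtain ⟨c₂, e₂⟩ := part_mul h.zz h.z_comm h.ii₂ h.jj₂ h.ji₂ v.2 w.2
  refine ⟨c₁ + c₂ + (a + b), ?_⟩
  calc rep i₁ j₁ i₂ j₂ v * zb z a * (rep i₁ j₁ i₂ j₂ w * zb z b)
      = rep i₁ j₁ i₂ j₂ v * rep i₁ j₁ i₂ j₂ w * (zb z a * zb z b) := by
        rw [mul_assoc, ← mul_assoc (zb z a), ← h.zb_comm a]; group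
    _ = part i₁ j₁ v.1 * part i₁ j₁ w.1 * (part i₂ j₂ v.2 * part i₂ j₂ w.2) * (zb z a * zb z b) := by
        rw [rep, rep, Commute.mul_mul_mul_comm (h.cross w.1 v.2).symm]
    _ = part i₁ j₁ (v.1 + w.1) * zb z c₁ * (part i₂ j₂ (v.2 + w.2) * zb z c₂) * (zb z a * zb z b) := by rw [e₁, e₂]
    _ = rep i₁ j₁ i₂ j₂ (v + w) * zb z (c₁ + c₂ + (a + b)) := by
        rw [zb_add h.zz, zb_add h.zz, zb_add h.zz, rep, Prod.fst_add, Prod.snd_add,
          mul_assoc (part i₁ j₁ (v.1 + w.1)) (zb z c₁), ← mul_assoc (zb z c₁) (part i₂ j₂ (v.2 + w.2)), ← h.zb_comm c₁]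
        group

theorem r_sq {x : S} {v : V4} (hx : R z i₁ j₁ i₂ j₂ x v) : x * x = zb z (qq v) := by
  obtain ⟨a, rfl⟩ := hx
  calc rep i₁ j₁ i₂ j₂ v * zb z a * (rep i₁ j₁ i₂ j₂ v * zb z a)
      = rep i₁ j₁ i₂ j₂ v * rep i₁ j₁ i₂ j₂ v * (zb z a * zb z a) := by
        rw [mul_assoc, ← mul_assoc (zb z a), ← h.zb_comm a]; group
    _ = rep i₁ j₁ i₂ j₂ v * rep i₁ j₁ i₂ j₂ v := by
        rw [← zb_add h.zz, show a + a = 0 by rcases zmod_two_cases a with rfl | rfl <;> decide, zb_zero, mul_one]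
    _ = zb z (nn v.1) * zb z (nn v.2) := by
        rw [rep, Commute.mul_mul_mul_comm (h.cross v.1 v.2).symm, part_sq h.zz h.z_comm h.ii₁ h.jj₁ h.ji₁,
          part_sq h.zz h.z_comm h.ii₂ h.jj₂ h.ji₂]
    _ = zb z (qq v) := (zb_add h.zz _ _).symm

theorem r_inv {x : S} {v : V4} (hx : R z i₁ j₁ i₂ j₂ x v) : R z i₁ j₁ i₂ j₂ x⁻¹ v := by
  have e : x⁻¹ = x * zb z (qq v) := by
    refine inv_eq_of_mul_eq_one_right ?_
    rw [← mul_assoc, h.r_sq hx, ← zb_add h.zz, show qq v + qq v = 0 by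
      rcases zmod_two_cases (qq v) with e | e <;> rw [e] <;> decide, zb_zero]
  rw [e]
  exact h.r_zmul _ hx

theorem r_exists {x : S} (hx : x ∈ Q) : ∃ v, R z i₁ j₁ i₂ j₂ x v := by
  have := h.gen hx
  induction this using closure_induction with
  | mem y hy =>
    simp only [Set.mem_insert_iff, Set.mem_singleton_iff] at hy
    rcases hy with rfl | rfl | rfl | rfl | rfl
    · exact ⟨0, h.r_z⟩
    · exact ⟨((1, 0), 0), 0, by simp [rep, part, zb, ZMod.val_one]⟩
    · exact ⟨((0, 1), 0), 0, by simp [rep, part, zb, ZMod.val_one]⟩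
    · exact ⟨(0, (1, 0)), 0, by simp [rep, part, zb, ZMod.val_one]⟩
    · exact ⟨(0, (0, 1)), 0, by simp [rep, part, zb, ZMod.val_one]⟩
  | one => exact ⟨0, r_one⟩
  | mul a b ha hb ea eb =>
    obtain ⟨v, hv⟩ := ea (by
      have : closure {z, i₁, j₁, i₂, j₂} ≤ Q := (closure_le _).2 (by
        obtain ⟨m1, m2, m3, m4, m5⟩ := h.mem
        intro g hg
        simp only [Set.mem_insert_iff, Set.mem_singleton_iff] at hg
        rcases hg with rfl | rfl | rfl | rfl | rfl <;> assumption)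
      exact this ha)
    obtain ⟨w, hw⟩ := eb (by
      have : closure {z, i₁, j₁, i₂, j₂} ≤ Q := (closure_le _).2 (by
        obtain ⟨m1, m2, m3, m4, m5⟩ := h.mem
        intro g hg
        simp only [Set.mem_insert_iff, Set.mem_singleton_iff] at hg
        rcases hg with rfl | rfl | rfl | rfl | rfl <;> assumption)
      exact this hb)
    exact ⟨_, h.r_mul hv hw⟩
  | inv a ha ea =>
    obtain ⟨v, hv⟩ := ea (by simpa using hx)
    exact ⟨v, h.r_inv hv⟩

theorem r_unique [Finite S] {x : S} {v w : V4} (hv : R z i₁ j₁ i₂ j₂ x v) (hw : R z i₁ j₁ i₂ j₂ x w) : v = w := by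
  let F : V4 × ZMod 2 → Q := fun p =>
    ⟨rep i₁ j₁ i₂ j₂ p.1 * zb z p.2, mul_mem (h.rep_mem _) (pow_mem h.mem.1 _)⟩
  have hsurj : Function.Surjective F := fun q => by
    obtain ⟨v', a, hq⟩ := h.r_exists q.2
    exact ⟨(v', a), Subtype.ext hq.symm⟩
  have hinj : Function.Injective F :=
    ((Nat.bijective_iff_surjective_and_card F).2 ⟨hsurj, by rw [h.hQ32]; simp⟩).1
  obtain ⟨a, ha⟩ := hv
  obtain ⟨b, hb⟩ := hw
  exact congrArg Prod.fst (hinj (Subtype.ext (ha.symm.trans hb) : F (v, a) = F (w, b)))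

theorem r_comm {x y : S} {v w : V4} (hx : R z i₁ j₁ i₂ j₂ x v) (hy : R z i₁ j₁ i₂ j₂ y w) :
    x * y = y * x * zb z (bf v w) := by
  have e := h.r_sq (h.r_mul hx hy)
  have hinv : ∀ {g : S} {u : V4}, R z i₁ j₁ i₂ j₂ g u → g⁻¹ = g * zb z (qq u) := fun {g u} hg => by
    refine inv_eq_of_mul_eq_one_right ?_
    rw [← mul_assoc, h.r_sq hg, ← zb_add h.zz, show qq u + qq u = 0 by
      rcases zmod_two_cases (qq u) with e | e <;> rw [e] <;> decide, zb_zero]
  have key : y * x = x * y * zb z (bf v w) := by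
    calc y * x = x⁻¹ * (x * y * (x * y)) * y⁻¹ := by group
      _ = zb z (qq (v + w)) * (x⁻¹ * y⁻¹) := by rw [e, h.zb_comm]; group
      _ = zb z (qq (v + w)) * (x * zb z (qq v) * (y * zb z (qq w))) := by rw [hinv hx, hinv hy]
      _ = zb z (qq (v + w)) * (x * y * (zb z (qq v) * zb z (qq w))) := by
        rw [mul_assoc x, ← mul_assoc (zb z (qq v)), ← h.zb_comm (qq v) y]; group
      _ = x * y * zb z (bf v w) := by
        rw [← mul_assoc, ← h.zb_comm, bf, zb_add h.zz, zb_add h.zz]; group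
  rw [key, mul_assoc, ← zb_add h.zz, show bf v w + bf v w = 0 by
    rcases zmod_two_cases (bf v w) with e | e <;> rw [e] <;> decide, zb_zero, mul_one]

end Setup

end CfsgLib.ExtraRank
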