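/-
The action of the normaliser on the coordinates.
-/
import Cfsg.Agent.Lib.ExtraRank.Basic

set_option autoImplicit false

namespace CfsgLib.ExtraRank

open Subgroup

universe u

variable {S : Type u} [Group S] [Finite S] {Q : Subgroup S} {z i₁ j₁ i₂ j₂ : S}

namespace Setup

variable (h : Setup Q z i₁ j₁ i₂ j₂)
include h

theorem exists_perm {x : S} (hx : x ∈ Subgroup.normalizer (Q : Set S)) :
    ∃ σ ∈ orth, ∀ y v, R z i₁ j₁ i₂ j₂ y v → R z i₁ j₁ i₂ j₂ (x * y * x⁻¹) (σ v) := by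
  classical
  choose T hT using fun v => h.r_exists ((mem_normalizer_iff.1 hx _).1 (h.rep_mem v))
  have spec : ∀ y v, R z i₁ j₁ i₂ j₂ y v → R z i₁ j₁ i₂ j₂ (x * y * x⁻¹) (T v) := by
    rintro y v ⟨a, rfl⟩
    rw [show x * (rep i₁ j₁ i₂ j₂ v * zb z a) * x⁻¹ = x * rep i₁ j₁ i₂ j₂ v * (zb z a * x⁻¹) by group,
      ← h.zb_comm a x⁻¹, ← mul_assoc]
    exact h.r_zmul a (hT v)
  have hinj : Function.Injective T := by
    intro v w e
    obtain ⟨a, ha⟩ := hT v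
    obtain ⟨b, hb⟩ := hT w
    rw [e] at ha
    have e2 : x * rep i₁ j₁ i₂ j₂ v * x⁻¹ = x * rep i₁ j₁ i₂ j₂ w * x⁻¹ * (zb z b * zb z a) := by
      rw [ha, hb, mul_assoc, ← mul_assoc (zb z b), ← zb_add h.zz, show b + b = 0 by
        rcases zmod_two_cases b with rfl | rfl <;> decide, zb_zero, one_mul]
    refine h.r_unique (x := rep i₁ j₁ i₂ j₂ v) (r_rep v) ⟨b + a, ?_⟩
    rw [zb_add h.zz]
    calc rep i₁ j₁ i₂ j₂ v = x⁻¹ * (x * rep i₁ j₁ i₂ j₂ v * x⁻¹) * x := by group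
      _ = rep i₁ j₁ i₂ j₂ w * (x⁻¹ * (zb z b * zb z a)) * x := by rw [e2]; group
      _ = rep i₁ j₁ i₂ j₂ w * (zb z b * zb z a) := by
        rw [← zb_add h.zz, h.zb_comm (b + a) x⁻¹]; group
  refine ⟨Equiv.ofBijective T (Finite.injective_iff_bijective.1 hinj), ⟨fun v w => ?_, fun v => ?_⟩, spec⟩
  · simp only [Equiv.ofBijective_apply]
    refine h.r_unique (spec _ _ (h.r_mul (r_rep v) (r_rep w))) ?_
    rw [show x * (rep i₁ j₁ i₂ j₂ v * rep i₁ j₁ i₂ j₂ w) * x⁻¹ =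
      (x * rep i₁ j₁ i₂ j₂ v * x⁻¹) * (x * rep i₁ j₁ i₂ j₂ w * x⁻¹) by group]
    exact h.r_mul (hT v) (hT w)
  · simp only [Equiv.ofBijective_apply]
    have e := h.r_sq (hT v)
    have e' := h.r_sq (r_rep (z := z) v)
    have e2 : zb z (qq (T v)) = zb z (qq v) := by
      rw [← e, ← e']
      calc x * rep i₁ j₁ i₂ j₂ v * x⁻¹ * (x * rep i₁ j₁ i₂ j₂ v * x⁻¹)
          = x * (rep i₁ j₁ i₂ j₂ v * rep i₁ j₁ i₂ j₂ v) * x⁻¹ := by group
        _ = rep i₁ j₁ i₂ j₂ v * rep i₁ j₁ i₂ j₂ v := by rw [e', h.zb_comm, mul_inv_cancel_right]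
    rcases zmod_two_cases (qq (T v)) with p | p <;> rcases zmod_two_cases (qq v) with r | r <;>
      simp [p, r, zb, ZMod.val_one, h.z1, h.z1.symm] at e2 ⊢

theorem perm_unique {x : S} {σ τ : Equiv.Perm V4}
    (hσ : ∀ y v, R z i₁ j₁ i₂ j₂ y v → R z i₁ j₁ i₂ j₂ (x * y * x⁻¹) (σ v))
    (hτ : ∀ y v, R z i₁ j₁ i₂ j₂ y v → R z i₁ j₁ i₂ j₂ (x * y * x⁻¹) (τ v)) : σ = τ :=
  Equiv.ext fun v => h.r_unique (hσ _ _ (r_rep v)) (hτ _ _ (r_rep v))

/-- The action as a homomorphism. -/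
noncomputable def psi : Subgroup.normalizer (Q : Set S) →* Equiv.Perm V4 :=
  MonoidHom.mk' (fun x => (h.exists_perm x.2).choose) fun a b => h.perm_unique
    (h.exists_perm (a * b).2).choose_spec.2 fun y v hy => by
      have := (h.exists_perm a.2).choose_spec.2 _ _ ((h.exists_perm b.2).choose_spec.2 _ _ hy)
      rw [show ((a * b : Subgroup.normalizer (Q : Set S)) : S) * y * ((a * b : Subgroup.normalizer (Q : Set S)) : S)⁻¹ =
        (a : S) * ((b : S) * y * (b : S)⁻¹) * (a : S)⁻¹ by simp [mul_assoc]]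
      exact this

theorem psi_mem (x : Subgroup.normalizer (Q : Set S)) : h.psi x ∈ orth := (h.exists_perm x.2).choose_spec.1

theorem psi_spec (x : Subgroup.normalizer (Q : Set S)) {y : S} {v : V4} (hy : R z i₁ j₁ i₂ j₂ y v) :
    R z i₁ j₁ i₂ j₂ ((x : S) * y * (x : S)⁻¹) (h.psi x v) := (h.exists_perm x.2).choose_spec.2 y v hy

theorem psi_commutator (x : Subgroup.normalizer (Q : Set S)) {y : S} {v : V4} (hy : R z i₁ j₁ i₂ j₂ y v) :
    R z i₁ j₁ i₂ j₂ ((x : S) * y * (x : S)⁻¹ * y⁻¹) (h.psi x v + v) := h.r_mul (h.psi_spec x hy) (h.r_inv hy)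

theorem psi_eq_one_iff (x : Subgroup.normalizer (Q : Set S)) : h.psi x = 1 ↔ (x : S) ∈ Q := by
  constructor
  · intro hx
    have hχ : ∀ v, ∃ a, (x : S) * rep i₁ j₁ i₂ j₂ v * (x : S)⁻¹ = rep i₁ j₁ i₂ j₂ v * zb z a := fun v => by
      have := h.psi_spec x (r_rep (z := z) v)
      rwa [hx] at this
    obtain ⟨a, ha⟩ := hχ ((1, 0), 0)
    obtain ⟨b, hb⟩ := hχ ((0, 1), 0)
    obtain ⟨c, hc⟩ := hχ (0, (1, 0))
    obtain ⟨d, hd⟩ := hχ (0, (0, 1))
    obtain ⟨w, hwa, hwb, hwc, hwd⟩ := bf_surj a b c d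
    set q₀ := rep i₁ j₁ i₂ j₂ w
    have key : ∀ v e, bf w v = e → (x : S) * rep i₁ j₁ i₂ j₂ v * (x : S)⁻¹ = rep i₁ j₁ i₂ j₂ v * zb z e →
        rep i₁ j₁ i₂ j₂ v * (q₀⁻¹ * x) = q₀⁻¹ * x * rep i₁ j₁ i₂ j₂ v := by
      intro v e he hv
      have e1 := h.r_comm (r_rep (z := z) w) (r_rep (z := z) v)
      rw [he] at e1
      rw [mul_inv_eq_iff_eq_mul] at hv
      calc rep i₁ j₁ i₂ j₂ v * (q₀⁻¹ * x)
          = q₀⁻¹ * (q₀ * rep i₁ j₁ i₂ j₂ v) * q₀⁻¹ * x := by group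
        _ = q₀⁻¹ * (rep i₁ j₁ i₂ j₂ v * (q₀ * zb z e)) * q₀⁻¹ * x := by rw [e1]; simp only [q₀, mul_assoc]
        _ = q₀⁻¹ * (rep i₁ j₁ i₂ j₂ v * zb z e) * x := by rw [h.zb_comm e q₀]; group
        _ = q₀⁻¹ * (x * rep i₁ j₁ i₂ j₂ v) := by rw [hv]; group
        _ = _ := by group
    have hcQ : q₀⁻¹ * (x : S) ∈ centralizer (Q : Set S) := by
      have hle : Q ≤ centralizer ({q₀⁻¹ * (x : S)} : Set S) := by
        refine h.gen.trans ((closure_le _).2 ?_)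
        intro g hg
        simp only [Set.mem_insert_iff, Set.mem_singleton_iff] at hg
        refine mem_centralizer_singleton_iff.2 ?_
        rcases hg with rfl | rfl | rfl | rfl | rfl
        · exact (h.z_comm _).symm
        · simpa [rep, part, ZMod.val_one] using key _ _ hwa ha
        · simpa [rep, part, ZMod.val_one] using key _ _ hwb hb
        · simpa [rep, part, ZMod.val_one] using key _ _ hwc hc
        · simpa [rep, part, ZMod.val_one] using key _ _ hwd hd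
      exact fun g hg => mem_centralizer_singleton_iff.1 (hle hg)
    have := mul_mem (h.rep_mem w) (h.hC hcQ)
    rwa [mul_inv_cancel_left] at this
  · intro hx
    refine Equiv.ext fun v => ?_
    obtain ⟨u, hu⟩ := h.r_exists hx
    refine h.r_unique (h.psi_spec x (r_rep (z := z) v)) ?_
    rw [h.r_comm hu (r_rep (z := z) v), mul_assoc _ (zb z _) _, ← h.zb_comm, ← mul_assoc, mul_inv_cancel_right]
    exact ⟨bf u v, rfl⟩

end Setup

end CfsgLib.ExtraRank
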