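/-
Sectional rank at most four for `Q₈ ∘ Q₈` containing its centraliser.
-/
import Cfsg.Agent.Lib.ExtraRank.Action
import Cfsg.Agent.Lib.MacWilliams.Main
import Cfsg.Agent.Lib.PGroup.RankTwoNormal

set_option autoImplicit false

namespace CfsgLib.ExtraRank

open Subgroup

universe u

variable {S : Type u} [Group S] [Finite S] {Q : Subgroup S} {z i₁ j₁ i₂ j₂ : S}

theorem perm_sq_add {σ : Equiv.Perm V4} (v : V4) (h : σ v + v = 0) : σ v = v := by
  calc σ v = (σ v + v) + v := by rw [add_assoc, v4_self_add, add_zero]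
    _ = v := by rw [h, zero_add]

theorem exists_moved {g : Iso} {σ : Equiv.Perm V4} (hg : ∀ v, σ v = act g v) (h : σ ≠ 1) : ∃ v, act g v ≠ v := by
  by_contra hc
  push Not at hc
  exact h (Equiv.ext fun v => (hg v).trans (hc v))

/-- At most one nontrivial isometry fixes a totally singular plane. -/
theorem eq_of_plane {σ τ : Equiv.Perm V4} (hσ : σ ∈ orth) (hτ : τ ∈ orth) (hσ1 : σ ≠ 1) (hτ1 : τ ≠ 1) {p r : V4}
    (hp : qq p = 0) (hp0 : p ≠ 0) (hr : qq r = 0) (hpr : qq (p + r) = 0) (hr0 : r ≠ 0) (hrp : r ≠ p)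
    (e1 : σ p = p) (e2 : σ r = r) (e3 : τ p = p) (e4 : τ r = r) : σ = τ := by
  obtain ⟨g, hg⟩ := exists_iso hσ
  obtain ⟨k, hk⟩ := exists_iso hτ
  have := one_plane p hp hp0 r hr hpr hr0 hrp g ((hg p).symm.trans e1) ((hg r).symm.trans e2)
    (exists_moved hg hσ1) k ((hk p).symm.trans e3) ((hk r).symm.trans e4) (exists_moved hk hτ1)
  exact Equiv.ext fun v => by rw [hg, hk, this]

/-- At most two values. -/
theorem card_range_le_two {H : Type*} [Group H] [Finite H] (φ : H →* Equiv.Perm V4)
    (heq : ∀ a b, φ a ≠ 1 → φ b ≠ 1 → φ a = φ b) : Nat.card φ.range ≤ 2 := by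
  classical
  by_cases hex : ∃ a, φ a ≠ 1
  · obtain ⟨a, ha⟩ := hex
    have hmem : ∀ σ : φ.range, (σ : Equiv.Perm V4) ∈ ({1, φ a} : Finset (Equiv.Perm V4)) := by
      rintro ⟨_, b, rfl⟩
      by_cases hb : φ b = 1
      · simp [hb]
      · simp [heq b a hb ha]
    have := Nat.card_le_card_of_injective (fun σ => (⟨_, hmem σ⟩ : ({1, φ a} : Finset (Equiv.Perm V4))))
      fun a b e => Subtype.ext (congrArg Subtype.val e :)
    rw [Nat.card_eq_fintype_card (α := ({1, φ a} : Finset (Equiv.Perm V4))), Fintype.card_coe] at this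
    exact this.trans Finset.card_le_two
  · push Not at hex
    rw [show φ.range = ⊥ from eq_bot_iff.2 (by rintro _ ⟨b, rfl⟩; exact mem_bot.2 (hex b)), Subgroup.card_bot]
    norm_num

/-- A set of elements with few coordinates is small. -/
theorem card_le_of_co {α : Type*} [Finite α] (ι : α → S) (hι : Function.Injective ι) (co : α → V4)
    (hco : ∀ a, R z i₁ j₁ i₂ j₂ (ι a) (co a)) (t : Finset V4) (ht : ∀ a, co a ∈ t) :
    Nat.card α ≤ 2 * t.card := by
  choose e he using hco
  have := Nat.card_le_card_of_injective (fun a => ((⟨co a, ht a⟩ : t), e a)) fun a b hab => by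
    simp only [Prod.mk.injEq, Subtype.mk.injEq] at hab
    exact hι (by rw [he a, he b, hab.1, hab.2])
  rw [Nat.card_prod, Nat.card_eq_fintype_card (α := t), Fintype.card_coe, Nat.card_zmod] at this
  omega

namespace Setup

variable (h : Setup Q z i₁ j₁ i₂ j₂)
include h

/-- If `Q` is normal, elementary abelian images of subgroups are small. -/
theorem card_le_of_normal (hn : Q.Normal) (H : Subgroup S) {V : Type u} [Group V] [Finite V] (f : H →* V)
    (hf : Function.Surjective f) (hV : ∀ v : V, v ^ 2 = 1) : Nat.card V ≤ 16 := by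
  classical
  haveI : Fact (Nat.Prime 2) := ⟨Nat.prime_two⟩
  haveI := hn
  by_contra hbig
  push Not at hbig
  have hN : ∀ x : S, x ∈ Subgroup.normalizer (Q : Set S) := fun x => by
    rw [Subgroup.normalizer_eq_top_iff.2 hn]; exact mem_top x
  have hV2 : IsPGroup 2 V := (h.hS.to_subgroup H).of_surjective f hf
  obtain ⟨kV, hkV⟩ := IsPGroup.iff_card.1 hV2
  have hV32 : 32 ≤ Nat.card V := MacWilliams.pow_four_arith kV hkV hbig
  set M := Q.subgroupOf H with hM
  let inc : H →* Subgroup.normalizer (Q : Set S) := MonoidHom.codRestrict H.subtype _ (fun x => hN x.1)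
  let φ : H →* Equiv.Perm V4 := h.psi.comp inc
  have hφo : ∀ x, φ x ∈ orth := fun x => h.psi_mem _
  have hker : φ.ker = M := by
    ext x
    exact h.psi_eq_one_iff _
  have hMi : M.index = Nat.card φ.range := by rw [← hker, Subgroup.index_ker]
  have hdvd : M.index ∣ 72 := by
    rw [hMi, ← card_orth]
    exact Subgroup.card_dvd_of_le (by rintro _ ⟨x, rfl⟩; exact hφo x)
  have hM8 : M.index ≤ 8 := by
    obtain ⟨k, hk⟩ := IsPGroup.index (h.hS.to_subgroup H) M
    rw [hk] at hdvd ⊢
    have : k ≤ 3 := by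
      by_contra hc
      have h16 : 2 ^ 4 ∣ 72 := (pow_dvd_pow 2 (show 4 ≤ k by omega)).trans hdvd
      norm_num at h16
    exact le_trans (Nat.pow_le_pow_right (by norm_num) this) (by norm_num)
  have hcardV := (M.map f).card_mul_index
  have hjdvd : (M.map f).index ∣ M.index := M.index_map_dvd hf
  have hM0 : M.index ≠ 0 := Subgroup.index_ne_zero_of_finite
  have hjM : (M.map f).index ≤ M.index := Nat.le_of_dvd (Nat.pos_of_ne_zero hM0) hjdvd
  have hj : (M.map f).index ≤ 4 := by
    by_contra hj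
    have h8 : (M.map f).index = M.index ∧ M.index = 8 := by
      obtain ⟨a, ha⟩ := IsPGroup.index hV2 (M.map f)
      obtain ⟨b, hb⟩ := IsPGroup.index (h.hS.to_subgroup H) M
      have h3 : 3 ≤ a := by
        by_contra hlt
        have := Nat.pow_le_pow_right (show 0 < 2 by norm_num) (show a ≤ 2 by omega)
        omega
      have := Nat.pow_le_pow_right (show 0 < 2 by norm_num) h3
      omega
    obtain ⟨h1, h2⟩ := h8
    have hkM : f.ker ≤ M := by
      have e : (M ⊔ f.ker).index = M.index := by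
        rw [← h1, Subgroup.index_map, MonoidHom.range_eq_top.2 hf, Subgroup.index_top, mul_one]
      have h4 := Subgroup.relIndex_mul_index (le_sup_left : M ≤ M ⊔ f.ker)
      rw [e] at h4
      have h5 : M.relIndex (M ⊔ f.ker) = 1 :=
        Nat.eq_of_mul_eq_mul_right (Nat.pos_of_ne_zero hM0) (by rw [h4, one_mul])
      exact le_sup_right.trans (Subgroup.relIndex_eq_one.1 h5)
    have hsq : ∀ x : H, φ x * φ x = 1 := fun x => by
      rw [← map_mul]
      exact MonoidHom.mem_ker.1 (hker ▸ hkM (show x * x ∈ f.ker from by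
        rw [MonoidHom.mem_ker, map_mul, ← pow_two, hV]))
    have hco : ∀ x y : H, φ x * φ y = φ y * φ x := fun x y => by
      have : φ (x * y * x⁻¹ * y⁻¹) = 1 := MonoidHom.mem_ker.1 (hker ▸ hkM (show x * y * x⁻¹ * y⁻¹ ∈ f.ker from by
        rw [MonoidHom.mem_ker, map_mul, map_mul, map_mul, map_inv, map_inv,
          MacWilliams.exp_two_comm hV (f x) (f y), mul_inv_cancel_right, mul_inv_cancel]))
      rw [map_mul, map_mul, map_mul, map_inv, map_inv, mul_inv_eq_one, mul_inv_eq_iff_eq_mul] at this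
      exact this
    haveI : Fintype φ.range := Fintype.ofFinite _
    have hnot : ∀ t : Finset (Equiv.Perm V4), t.card ≤ 4 → ∃ x, φ x ∉ t := by
      intro t ht
      by_contra hc
      push Not at hc
      have hmem : ∀ σ : φ.range, (σ : Equiv.Perm V4) ∈ t := by rintro ⟨_, b, rfl⟩; exact hc b
      have := Nat.card_le_card_of_injective (fun σ => (⟨_, hmem σ⟩ : t))
        fun a b e => Subtype.ext (congrArg Subtype.val e :)
      rw [← hMi, h2, Nat.card_eq_fintype_card (α := t), Fintype.card_coe] at this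
      omega
    obtain ⟨a, ha⟩ := hnot {1} (by simp)
    obtain ⟨b, hb⟩ := hnot {1, φ a} (Finset.card_le_two.trans (by norm_num))
    obtain ⟨c, hc⟩ := hnot {1, φ a, φ b, φ a * φ b} Finset.card_le_four
    simp only [Finset.mem_insert, Finset.mem_singleton, not_or] at ha hb hc
    obtain ⟨g, hg⟩ := exists_iso (hφo a)
    obtain ⟨k, hk⟩ := exists_iso (hφo b)
    obtain ⟨l, hl⟩ := exists_iso (hφo c)
    have app : ∀ (σ τ : Equiv.Perm V4) (p r : Iso), (∀ v, σ v = act p v) → (∀ v, τ v = act r v) →
        ∀ v, (σ * τ) v = act p (act r v) := fun σ τ p r hp hr v => by rw [Equiv.Perm.mul_apply, hr, hp]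
    have hsq' : ∀ x (p : Iso), (∀ v, φ x v = act p v) → ∀ v, act p (act p v) = v := fun x p hp v => by
      rw [← app _ _ _ _ hp hp v, hsq, Equiv.Perm.one_apply]
    have hco' : ∀ x y (p r : Iso), (∀ v, φ x v = act p v) → (∀ v, φ y v = act r v) →
        ∀ v, act p (act r v) = act r (act p v) := fun x y p r hp hr v => by
      rw [← app _ _ _ _ hp hr v, hco, app _ _ _ _ hr hp v]
    rcases no_eight g (hsq' a g hg) k (hsq' b k hk) (hco' a b g k hg hk) l (hsq' c l hl) (hco' a c g l hg hl)
      (hco' b c k l hk hl) with e | e | e | e | e | e | e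
    · exact ha (Equiv.ext fun v => by rw [hg, e, Equiv.Perm.one_apply])
    · exact hb.1 (Equiv.ext fun v => by rw [hk, e, Equiv.Perm.one_apply])
    · exact hb.2 (Equiv.ext fun v => by rw [hk, hg, e])
    · exact hc.1 (Equiv.ext fun v => by rw [hl, e, Equiv.Perm.one_apply])
    · exact hc.2.1 (Equiv.ext fun v => by rw [hl, hg, e])
    · exact hc.2.2.1 (Equiv.ext fun v => by rw [hl, hk, e])
    · exact hc.2.2.2 (Equiv.ext fun v => by rw [hl, e, app _ _ _ _ hg hk])
  have hm8 : 8 ≤ Nat.card (M.map f) := by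
    by_contra hc
    have := Nat.mul_le_mul (show Nat.card (M.map f) ≤ 7 by omega) hj
    omega
  -- the kernel on `M`
  let g : M →* V := f.comp M.subtype
  have hgr : Nat.card g.range = Nat.card (M.map f) := by rw [MonoidHom.range_comp, Subgroup.range_subtype]
  have hgk : Nat.card g.ker * Nat.card (M.map f) = Nat.card M := by
    have := g.ker.card_mul_index
    rwa [Subgroup.index_ker, hgr] at this
  have hMc : Nat.card M ≤ 32 := h.hQ32 ▸ Nat.card_le_card_of_injective (fun m : M => (⟨(m.1 : S), m.2⟩ : Q))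
    fun a b e => Subtype.ext (Subtype.ext (congrArg Subtype.val e :))
  obtain ⟨km, hkm⟩ := IsPGroup.iff_card.1 (hV2.to_subgroup (M.map f))
  have hcomm : ∀ (x : H) (m : M), ∃ n : M, g n = 1 ∧ (n.1 : S) = (x : S) * m.1 * (x : S)⁻¹ * (m.1 : S)⁻¹ := by
    intro x m
    refine ⟨⟨x * m.1 * x⁻¹ * m.1⁻¹, ?_⟩, ?_, rfl⟩
    · exact mul_mem (Normal.conj_mem (H := M) inferInstance _ m.2 x) (inv_mem m.2)
    · show f (x * m.1 * x⁻¹ * m.1⁻¹) = 1
      rw [map_mul, map_mul, map_mul, map_inv, map_inv, MacWilliams.exp_two_comm hV (f x),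
        mul_inv_cancel_right, mul_inv_cancel]
  choose co hco using fun m : M => h.r_exists (show (m.1 : S) ∈ Q from m.2)
  have hmove : ∀ (x : H) (m : M), ∃ n : M, g n = 1 ∧ co n = φ x (co m) + co m := by
    intro x m
    obtain ⟨n, hn1, hn2⟩ := hcomm x m
    exact ⟨n, hn1, h.r_unique (hco n) (hn2 ▸ h.psi_commutator (inc x) (hco m))⟩
  have hzmem : ∀ hzH : z ∈ H, (⟨z, hzH⟩ : H) ∈ M := fun _ => h.mem.1
  by_cases hfz : ∃ hzH : z ∈ H, f ⟨z, hzH⟩ = 1
  · obtain ⟨hzH, hfz⟩ := hfz
    let zM : M := ⟨⟨z, hzH⟩, hzmem hzH⟩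
    have hk2 : 2 ≤ Nat.card g.ker := by
      haveI : Nontrivial g.ker := ⟨⟨zM, hfz⟩, 1, fun e => h.z1 (congrArg (fun t : g.ker => (t.1.1 : S)) e)⟩
      exact Finite.one_lt_card
    -- at most one direction in the kernel
    have hone : ∀ n n' : M, g n = 1 → g n' = 1 → co n ≠ 0 → co n' ≠ 0 → co n = co n' := by
      intro n n' hn hn' hn0 hn0'
      by_contra hne
      let F : Fin 3 × Bool → g.ker := fun p =>
        ⟨(![1, n, n'] p.1) * cond p.2 zM 1, by
          rw [MonoidHom.mem_ker, map_mul]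
          rcases p with ⟨i, b⟩
          fin_cases i <;> cases b <;> simp [hn, hn', show g zM = 1 from hfz]⟩
      have hF : Function.Injective F := by
        intro p q e
        have hR : ∀ r : Fin 3 × Bool, R z i₁ j₁ i₂ j₂ (((F r).1.1 : H) : S) (![0, co n, co n'] r.1) := by
          rintro ⟨i, b⟩
          have hz0 : R z i₁ j₁ i₂ j₂ (((cond b zM 1 : M).1 : H) : S) 0 := by
            cases b
            · exact r_one
            · exact h.r_z
          have h1 : R z i₁ j₁ i₂ j₂ (((![1, n, n'] i : M).1 : H) : S) (![0, co n, co n'] i) := by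
            fin_cases i
            · exact r_one
            · exact hco n
            · exact hco n'
          have := h.r_mul h1 hz0
          rw [add_zero] at this
          exact this
        have e1 := h.r_unique (hR p) (e ▸ hR q)
        rcases p with ⟨i, b⟩
        rcases q with ⟨j, c⟩
        have hij : i = j := by
          fin_cases i <;> fin_cases j <;> simp at e1 ⊢
          all_goals first
            | exact hn0 e1
            | exact hn0 e1.symm
            | exact hn0' e1
            | exact hn0' e1.symm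
            | exact hne e1
            | exact hne e1.symm
        subst hij
        have e2 := mul_left_cancel (congrArg Subtype.val e :)
        have hzM : zM ≠ 1 := fun e' => h.z1 (congrArg (fun t : M => (t.1 : S)) e')
        cases b <;> cases c <;> first
          | rfl
          | (exfalso; exact hzM (by simpa using e2))
          | (exfalso; exact hzM (by simpa using e2.symm))
      have h6 := Nat.card_le_card_of_injective F hF
      simp only [Nat.card_prod, Nat.card_eq_fintype_card (α := Fin 3), Fintype.card_fin,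
        Nat.card_eq_fintype_card (α := Bool), Fintype.card_bool] at h6
      nlinarith [Nat.mul_le_mul h6 hm8]
    have hsmall : M.index ≤ 2 := by
      rw [hMi]
      by_cases hex : ∃ n : M, g n = 1 ∧ co n ≠ 0
      · obtain ⟨n, hn, hn0⟩ := hex
        have hk4 : 3 ≤ Nat.card g.ker := by
          haveI : Fintype g.ker := Fintype.ofFinite _
          let s : Finset g.ker := {1, ⟨zM, hfz⟩, ⟨n, hn⟩}
          have hs : s.card = 3 := by
            simp only [s]
            rw [Finset.card_insert_of_notMem, Finset.card_insert_of_notMem, Finset.card_singleton]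
            · simp only [Finset.mem_singleton]
              intro e
              exact hn0 (h.r_unique (hco n) ((congrArg (fun t : g.ker => (t.1.1 : S)) e) ▸ h.r_z))
            · simp only [Finset.mem_insert, Finset.mem_singleton, not_or]
              exact ⟨fun e => h.z1 (congrArg (fun t : g.ker => (t.1.1 : S)) e).symm,
                fun e => hn0 (h.r_unique (hco n) ((congrArg (fun t : g.ker => (t.1.1 : S)) e) ▸ r_one))⟩
          rw [Nat.card_eq_fintype_card, ← hs]
          exact Finset.card_le_univ s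
        have hMfull : ∀ v : V4, ∃ m : M, co m = v := by
          obtain ⟨kk, hkk⟩ := IsPGroup.iff_card.1 ((h.hS.to_subgroup H).to_subgroup M)
          have h24 : 24 ≤ Nat.card M := hgk ▸ (le_trans (by norm_num) (Nat.mul_le_mul hk4 hm8))
          have h32 : Nat.card M = 32 := by
            have : 5 ≤ kk := by
              by_contra hc
              have := Nat.pow_le_pow_right (show 0 < 2 by norm_num) (show kk ≤ 4 by omega)
              omega
            have := Nat.pow_le_pow_right (show 0 < 2 by norm_num) this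
            omega
          intro v
          have hb : Function.Bijective (fun m : M => (⟨(m.1 : S), m.2⟩ : Q)) :=
            (Nat.bijective_iff_injective_and_card _).2 ⟨fun a b e => Subtype.ext (Subtype.ext (congrArg Subtype.val e :)),
              h32.trans h.hQ32.symm⟩
          obtain ⟨m, hm⟩ := hb.2 ⟨_, h.rep_mem v⟩
          have hm' : (m.1 : S) = rep i₁ j₁ i₂ j₂ v := congrArg Subtype.val hm
          exact ⟨m, h.r_unique (hco m) (hm' ▸ r_rep v)⟩
        refine card_range_le_two φ fun x y hx hy => ?_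
        have hmv : ∀ (w : H) v, φ w v + v = 0 ∨ φ w v + v = co n := fun w v => by
          obtain ⟨m, rfl⟩ := hMfull v
          obtain ⟨n', hn', e⟩ := hmove w m
          by_cases h0 : co n' = 0
          · exact Or.inl (e ▸ h0)
          · exact Or.inr (e ▸ hone n' n hn' hn h0 hn0)
        obtain ⟨gx, hgx⟩ := exists_iso (hφo x)
        obtain ⟨gy, hgy⟩ := exists_iso (hφo y)
        have := one_center (co n) gx (fun v => hgx v ▸ hmv x v) (exists_moved hgx hx) gy (fun v => hgy v ▸ hmv y v)
          (exists_moved hgy hy)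
        exact Equiv.ext fun v => by rw [hgx, hgy, this]
      · push Not at hex
        have hfix : ∀ (x : H) (m : M), φ x (co m) = co m := fun x m => by
          obtain ⟨n, hn, e⟩ := hmove x m
          exact perm_sq_add _ (e.symm.trans (hex n hn))
        refine card_range_le_two φ fun x y hx hy => ?_
        obtain ⟨gx, hgx⟩ := exists_iso (hφo x)
        obtain ⟨gy, hgy⟩ := exists_iso (hφo y)
        have := one_axis gx (exists_moved hgx hx) gy (exists_moved hgy hy) (by
          have h16 : 16 ≤ Nat.card M := hgk ▸ (le_trans (by norm_num) (Nat.mul_le_mul hk2 hm8))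
          have hsub : ∀ m : M, co m ∈ Finset.univ.filter fun v => act gx v = v ∧ act gy v = v := fun m => by
            simp only [Finset.mem_filter, Finset.mem_univ, true_and]
            exact ⟨hgx _ ▸ hfix x m, hgy _ ▸ hfix y m⟩
          have := card_le_of_co (fun m : M => (m.1 : S)) (fun a b e => Subtype.ext (Subtype.ext e)) co hco _ hsub
          omega)
        exact Equiv.ext fun v => by rw [hgx, hgy, this]
    have hjj : (M.map f).index ≤ 2 := hjM.trans hsmall
    have hm16 : 16 ≤ Nat.card (M.map f) := by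
      by_contra hc
      have := Nat.mul_le_mul (show Nat.card (M.map f) ≤ 15 by omega) hjj
      omega
    have hm16' : Nat.card (M.map f) = 16 ∧ Nat.card g.ker = 2 := by
      have h1 := Nat.mul_le_mul hk2 (le_refl (Nat.card (M.map f)))
      rw [hgk] at h1
      have hm : Nat.card (M.map f) = 16 := by omega
      exact ⟨hm, by rw [hm] at hgk; omega⟩
    obtain ⟨hm, hk⟩ := hm16'
    have hco0 : ∀ n : M, g n = 1 → co n = 0 := by
      intro n hn
      by_contra hn0
      haveI : Fintype g.ker := Fintype.ofFinite _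
      let s : Finset g.ker := {1, ⟨zM, hfz⟩, ⟨n, hn⟩}
      have hs : s.card = 3 := by
        simp only [s]
        rw [Finset.card_insert_of_notMem, Finset.card_insert_of_notMem, Finset.card_singleton]
        · simp only [Finset.mem_singleton]
          intro e
          exact hn0 (h.r_unique (hco n) ((congrArg (fun t : g.ker => (t.1.1 : S)) e) ▸ h.r_z))
        · simp only [Finset.mem_insert, Finset.mem_singleton, not_or]
          exact ⟨fun e => h.z1 (congrArg (fun t : g.ker => (t.1.1 : S)) e).symm,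
            fun e => hn0 (h.r_unique (hco n) ((congrArg (fun t : g.ker => (t.1.1 : S)) e) ▸ r_one))⟩
      have := hs ▸ Finset.card_le_univ s
      rw [← Nat.card_eq_fintype_card, hk] at this
      omega
    have hb : Function.Bijective (fun m : M => (⟨(m.1 : S), m.2⟩ : Q)) :=
      (Nat.bijective_iff_injective_and_card _).2 ⟨fun a b e => Subtype.ext (Subtype.ext (congrArg Subtype.val e :)),
        by rw [← hgk, hk, hm, h.hQ32]⟩
    have h1 : M.index = 1 := by
      rw [hMi, Subgroup.card_eq_one, eq_bot_iff]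
      rintro _ ⟨x, rfl⟩
      refine mem_bot.2 (Equiv.ext fun v => ?_)
      obtain ⟨m, hm⟩ := hb.2 ⟨_, h.rep_mem v⟩
      have hm' : (m.1 : S) = rep i₁ j₁ i₂ j₂ v := congrArg Subtype.val hm
      have hv : co m = v := h.r_unique (hco m) (hm' ▸ r_rep v)
      obtain ⟨n, hn, e⟩ := hmove x m
      rw [hco0 n hn, hv] at e
      exact perm_sq_add v e.symm
    rw [h1] at hjM
    have := Nat.mul_le_mul hm.le hjM
    omega
  -- `M` is elementary abelian
  push Not at hfz
  have hsq : ∀ m : M, qq (co m) = 0 := by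
    intro m
    rcases zmod_two_cases (qq (co m)) with e | e
    · exact e
    exfalso
    have e1 := h.r_sq (hco m)
    rw [e, zb_one] at e1
    have hzH : z ∈ H := e1 ▸ mul_mem m.1.2 m.1.2
    refine hfz hzH ?_
    rw [show (⟨z, hzH⟩ : H) = m.1 * m.1 from Subtype.ext e1.symm, map_mul, ← pow_two, hV]
  have hbf : ∀ m n : M, qq (co m + co n) = 0 := fun m n => by
    rw [← h.r_unique (hco (m * n)) (h.r_mul (hco m) (hco n))]; exact hsq _
  have hbf3 : ∀ m n o : M, qq (co m + co n + co o) = 0 := fun m n o => by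
    rw [← h.r_unique (hco (m * n * o)) (h.r_mul (h.r_mul (hco m) (hco n)) (hco o))]; exact hsq _
  obtain ⟨p, r, hp0, hr0, hrp⟩ : ∃ p r : M, co p ≠ 0 ∧ co r ≠ 0 ∧ co r ≠ co p := by
    by_contra hc
    push Not at hc
    have hM4 : Nat.card M ≤ 4 := by
      by_cases hp : ∃ p : M, co p ≠ 0
      · obtain ⟨p, hp⟩ := hp
        refine (card_le_of_co (fun m : M => (m.1 : S)) (fun a b e => Subtype.ext (Subtype.ext e)) co hco {0, co p}
          fun m => ?_).trans (Nat.mul_le_mul_left 2 Finset.card_le_two)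
        by_cases hm : co m = 0
        · simp [hm]
        · simp [hc p m hp hm]
      · push Not at hp
        exact (card_le_of_co (fun m : M => (m.1 : S)) (fun a b e => Subtype.ext (Subtype.ext e)) co hco {0}
          fun m => by simp [hp m]).trans (by simp)
    have := Nat.le_of_dvd Nat.card_pos ⟨_, (mul_comm _ _).trans hgk |>.symm⟩
    omega
  have hall : ∀ m : M, co m = 0 ∨ co m = co p ∨ co m = co r ∨ co m = co p + co r := fun m =>
    no_singular_three _ (hsq p) hp0 _ (hsq r) (hbf p r) hr0 hrp _ (hsq m) (hbf p m) (hbf r m) (hbf3 p r m)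
  have hM8' : Nat.card M ≤ 8 := by
    have hmem : ∀ m : M, co m ∈ ({0, co p, co r, co p + co r} : Finset V4) := fun m => by
      rcases hall m with e | e | e | e <;> simp [e]
    exact (card_le_of_co (fun m : M => (m.1 : S)) (fun a b e => Subtype.ext (Subtype.ext e)) co hco _ hmem).trans
      (Nat.mul_le_mul_left 2 Finset.card_le_four)
  have hk1 : g.ker = ⊥ := Subgroup.card_le_one_iff_eq_bot _ |>.1 (by
    by_contra hc
    have := Nat.mul_le_mul (show 2 ≤ Nat.card g.ker by omega) hm8
    omega)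
  have hfix : ∀ (x : H) (m : M), φ x (co m) = co m := fun x m => by
    obtain ⟨n, hn, e⟩ := hmove x m
    have hn' : n = 1 := by have : n ∈ g.ker := hn; rwa [hk1, mem_bot] at this
    have h0 : co n = 0 := h.r_unique (hco n) (by rw [hn']; exact r_one)
    exact perm_sq_add _ (e.symm.trans h0)
  have h2 : M.index ≤ 2 := by
    rw [hMi]
    exact card_range_le_two φ fun x y hx hy => eq_of_plane (hφo x) (hφo y) hx hy (hsq p) hp0 (hsq r) (hbf p r) hr0 hrp
      (hfix x p) (hfix x r) (hfix y p) (hfix y r)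
  have := Nat.mul_le_mul (show Nat.card (M.map f) ≤ 8 from
    (Nat.le_of_dvd Nat.card_pos ⟨_, (mul_comm _ _).trans hgk |>.symm⟩).trans hM8') (hjM.trans h2)
  omega

/-- An element moving `Q` inside a small elementary abelian subgroup lies in `Q`. -/
theorem mem_of_small {B : Subgroup S} (hB2 : ∀ b ∈ B, b * b = 1) (hB4 : Nat.card B ≤ 4) (hzB : z ∈ B)
    (y : Subgroup.normalizer (Q : Set S)) (hy : ∀ q ∈ Q, (y : S) * q * (y : S)⁻¹ * q⁻¹ ∈ B) : (y : S) ∈ Q := by
  classical
  rw [← h.psi_eq_one_iff]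
  obtain ⟨gy, hgy⟩ := exists_iso (h.psi_mem y)
  have hmove := fun v => h.psi_commutator y (r_rep (z := z) v)
  by_cases hex : ∃ v, h.psi y v + v ≠ 0
  · obtain ⟨v₀, hv₀⟩ := hex
    have hb₀ := hy _ (h.rep_mem v₀)
    set b₀ := (y : S) * rep i₁ j₁ i₂ j₂ v₀ * (y : S)⁻¹ * (rep i₁ j₁ i₂ j₂ v₀)⁻¹ with hb₀def
    set a := h.psi y v₀ + v₀ with hadef
    have hbR : R z i₁ j₁ i₂ j₂ b₀ a := hmove v₀
    have ha : qq a = 0 := by
      have e := h.r_sq hbR
      rw [hB2 _ hb₀] at e
      rcases zmod_two_cases (qq a) with p | p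
      · exact p
      · rw [p, zb_one] at e; exact absurd e.symm h.z1
    have hall : ∀ v, act gy v + v = 0 ∨ act gy v + v = a := by
      intro v
      rw [← hgy]
      by_contra hc
      push Not at hc
      obtain ⟨hc0, hca⟩ := hc
      have hb := hy _ (h.rep_mem v)
      have hbv := hmove v
      set b := (y : S) * rep i₁ j₁ i₂ j₂ v * (y : S)⁻¹ * (rep i₁ j₁ i₂ j₂ v)⁻¹ with hbdef
      haveI : Fintype B := Fintype.ofFinite _
      let s : Finset B := {1, ⟨z, hzB⟩, ⟨b₀, hb₀⟩, ⟨b₀ * z, mul_mem hb₀ hzB⟩, ⟨b, hb⟩}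
      have hbz : R z i₁ j₁ i₂ j₂ (b₀ * z) a := by
        have := h.r_mul hbR h.r_z
        rwa [add_zero] at this
      have ne : ∀ {g₁ g₂ : S} {u₁ u₂ : V4}, R z i₁ j₁ i₂ j₂ g₁ u₁ → R z i₁ j₁ i₂ j₂ g₂ u₂ → u₁ ≠ u₂ → g₁ ≠ g₂ :=
        fun r1 r2 hu e => hu (h.r_unique r1 (e ▸ r2))
      have hs : s.card = 5 := by
        simp only [s]
        rw [Finset.card_insert_of_notMem, Finset.card_insert_of_notMem, Finset.card_insert_of_notMem,
          Finset.card_insert_of_notMem, Finset.card_singleton]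
        · simp only [Finset.mem_singleton, Subtype.mk.injEq]; exact ne hbz hbv hca.symm
        · simp only [Finset.mem_insert, Finset.mem_singleton, Subtype.mk.injEq, not_or]
          exact ⟨fun e => h.z1 (mul_eq_left.1 e.symm), ne hbR hbv hca.symm⟩
        · simp only [Finset.mem_insert, Finset.mem_singleton, Subtype.mk.injEq, not_or]
          exact ⟨ne h.r_z hbR hv₀.symm, ne h.r_z hbz hv₀.symm, ne h.r_z hbv hc0.symm⟩
        · simp only [Finset.mem_insert, Finset.mem_singleton, not_or]
          exact ⟨fun e => h.z1 (congrArg Subtype.val e).symm, fun e => ne r_one hbR hv₀.symm (congrArg Subtype.val e),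
            fun e => ne r_one hbz hv₀.symm (congrArg Subtype.val e), fun e => ne r_one hbv hc0.symm (congrArg Subtype.val e)⟩
      have := hs ▸ Finset.card_le_univ s
      rw [← Nat.card_eq_fintype_card] at this
      omega
    exact Equiv.ext fun v => (hgy v).trans (no_singular_transvection a ha gy hall v)
  · push Not at hex
    exact Equiv.ext fun v => perm_sq_add v (hex v)

/-- If `Q` is not normal there is no normal elementary abelian subgroup of order eight. -/
theorem noEight_of_not_normal (hn : ¬ Q.Normal) : MacWilliams.NoEight S := by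
  classical
  intro V hVn hVc hV2
  by_contra hbig
  push Not at hbig
  haveI : Fact (Nat.Prime 2) := ⟨Nat.prime_two⟩
  haveI := h.hS.isNilpotent
  have hVcomm : ∀ a ∈ V, ∀ b ∈ V, a * b = b * a := fun a ha b hb =>
    congrArg (Subtype.val : V → S) (hVc.is_comm.comm ⟨a, ha⟩ ⟨b, hb⟩)
  have hV2' : ∀ a ∈ V, a * a = 1 := fun a ha => by rw [← pow_two]; exact hV2 a ha
  set N := Subgroup.normalizer (Q : Set S) with hN
  have hNtop : N ≠ ⊤ := fun e => hn (Subgroup.normalizer_eq_top_iff.1 e)
  obtain ⟨g, hgN, hg⟩ : ∃ g, g ∈ Subgroup.normalizer (N : Set S) ∧ g ∉ N :=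
    SetLike.exists_of_lt (Group.normalizerCondition_of_isNilpotent N (lt_top_iff_ne_top.2 hNtop))
  have hgconj : ∀ n, n ∈ N ↔ g * n * g⁻¹ ∈ N := mem_normalizer_iff.1 hgN
  set Q' := Q.map (MulAut.conj g).toMonoidHom with hQ'
  have hQN : Q ≤ N := Subgroup.le_normalizer
  have hQ'N : Q' ≤ N := by rintro _ ⟨e, he, rfl⟩; exact (hgconj e).1 (hQN he)
  have hQ'n : N ≤ Subgroup.normalizer (Q' : Set S) := by
    have key : ∀ n ∈ N, ∀ y ∈ Q', n * y * n⁻¹ ∈ Q' := by
      rintro n hn _ ⟨e, he, rfl⟩
      have h1 : g⁻¹ * n * g ∈ N := (hgconj _).2 (by rwa [show g * (g⁻¹ * n * g) * g⁻¹ = n by group])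
      refine ⟨_, (mem_normalizer_iff.1 h1 e).1 he, ?_⟩
      simp [MulAut.conj_apply, mul_assoc]
    intro n hn
    refine mem_normalizer_iff.2 fun y => ⟨key n hn y, fun hy => ?_⟩
    have := key n⁻¹ (inv_mem hn) _ hy
    simpa [mul_assoc] using this
  have hzQ' : z ∈ Q' := ⟨z, h.mem.1, by simp [MulAut.conj_apply, h.z_comm g]⟩
  have hQ'c : ∀ a ∈ Q', ∀ b ∈ Q', ∃ e : ZMod 2, a * b = b * a * zb z e := by
    rintro _ ⟨a, ha, rfl⟩ _ ⟨b, hb, rfl⟩
    obtain ⟨v, hv⟩ := h.r_exists ha
    obtain ⟨w, hw⟩ := h.r_exists hb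
    refine ⟨bf v w, ?_⟩
    rw [← map_mul, h.r_comm hv hw, map_mul, map_mul]
    congr 1
    show g * zb z _ * g⁻¹ = _
    rw [h.zb_comm, mul_inv_cancel_right]
  obtain ⟨V', hV'le, hV'8, hV'n⟩ : ∃ V' : Subgroup S, V' ≤ V ∧ Nat.card V' = 8 ∧ V'.Normal := by
    obtain ⟨k, hk⟩ := IsPGroup.iff_card.1 (h.hS.to_subgroup V)
    have hk3 : 3 ≤ k := by
      by_contra hc
      have := Nat.pow_le_pow_right (show 0 < 2 by norm_num) (show k ≤ 2 by omega)
      omega
    haveI := hVn
    obtain ⟨M, hMn, hMV, hM⟩ := CfsgLib.PGroupRankTwo.exists_normal_card h.hS V 3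
      (by rw [hk]; exact Nat.pow_le_pow_right (by norm_num) hk3)
    exact ⟨M, hMV, by rw [hM]; rfl, hMn⟩
  have hV'sub : ∀ W : Subgroup S, W ≤ V' → Nat.card W ≤ 8 := fun W hW => hV'8 ▸ Subgroup.card_le_of_le hW
  have hzV' : z ∈ V' := by
    obtain ⟨w, hw, hw1⟩ := (Subgroup.bot_or_exists_ne_one _).resolve_left
      (haveI := hV'n; CfsgLib.inf_center_ne_bot_of_nilpotent (N := V') (fun e => by rw [e, Subgroup.card_bot] at hV'8; omega))
    have hwQ : w ∈ Q := h.hC fun g _ => mem_center_iff.1 hw.2 g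
    obtain ⟨v, a, ha⟩ := h.r_exists hwQ
    have hv : v = 0 := bf_nondeg v fun u => by
      have e := h.r_comm ⟨a, ha⟩ (r_rep (z := z) u)
      rw [mem_center_iff.1 hw.2 _] at e
      rcases zmod_two_cases (bf v u) with p | p
      · exact p
      · rw [p, zb_one] at e; exact absurd (mul_eq_left.1 e.symm) h.z1
    rw [hv] at ha
    rcases zmod_two_cases a with rfl | rfl
    · exact absurd (by simp [ha, rep, part, zb_zero]) hw1
    · have : w = z := by simp [ha, rep, part, zb_one]
      exact this ▸ hw.1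
  have hWQ : V' ⊓ N ≤ Q := by
    intro y hy
    by_contra hyQ
    have hle : Nat.card ↥(V' ⊓ Q) ≤ 4 := by
      have hlt : V' ⊓ Q < V' ⊓ N :=
        lt_of_le_of_ne (inf_le_inf_left V' hQN) fun e => hyQ (e.symm ▸ hy : y ∈ V' ⊓ Q).2
      have h1 : Nat.card ↥(V' ⊓ Q) < Nat.card ↥(V' ⊓ N) := lt_of_not_ge fun e => hlt.ne (eq_of_le_of_card_ge hlt.le e)
      have h2 := hV'sub _ (inf_le_left : V' ⊓ N ≤ V')
      obtain ⟨k, hk⟩ := IsPGroup.iff_card.1 (h.hS.to_subgroup (V' ⊓ Q))
      rw [hk] at h1 ⊢
      have : k ≤ 2 := by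
        by_contra hc
        have := Nat.pow_le_pow_right (show 0 < 2 by norm_num) (show 3 ≤ k by omega)
        omega
      exact le_trans (Nat.pow_le_pow_right (by norm_num) this) le_rfl
    refine hyQ (h.mem_of_small (B := V' ⊓ Q) (fun b hb => hV2' b (hV'le hb.1)) hle ⟨hzV', h.mem.1⟩ ⟨y, hy.2⟩
      fun q hq => ⟨?_, ?_⟩)
    · have := mul_mem hy.1 (hV'n.conj_mem _ (inv_mem hy.1) q)
      rwa [show y * (q * y⁻¹ * q⁻¹) = y * q * y⁻¹ * q⁻¹ by group] at this
    · show y * q * y⁻¹ * q⁻¹ ∈ Q
      exact mul_mem ((mem_normalizer_iff.1 hy.2 q).1 hq) (inv_mem hq)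
  have hVN : ¬ V' ≤ N := by
    intro hle
    have hVQ : V' ≤ Q := fun y hy => hWQ ⟨hy, hle hy⟩
    have hVQ' : V' ≤ Q' := fun y hy => by
      refine ⟨g⁻¹ * y * g, hVQ ?_, by simp [MulAut.conj_apply, mul_assoc]⟩
      have := hV'n.conj_mem _ hy g⁻¹; rwa [inv_inv] at this
    choose cv hcv using fun m : V' => h.r_exists (hVQ m.2)
    obtain ⟨p, r, hp0, hr0, hrp⟩ : ∃ p r : V', cv p ≠ 0 ∧ cv r ≠ 0 ∧ cv r ≠ cv p := by
      by_contra hc
      push Not at hc
      have hM4 : Nat.card V' ≤ 4 := by
        by_cases hp : ∃ p : V', cv p ≠ 0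
        · obtain ⟨p, hp⟩ := hp
          refine (card_le_of_co (fun m : V' => (m : S)) Subtype.val_injective cv hcv {0, cv p} fun m => ?_).trans
            (Nat.mul_le_mul_left 2 Finset.card_le_two)
          by_cases hm : cv m = 0
          · simp [hm]
          · simp [hc p m hp hm]
        · push Not at hp
          exact (card_le_of_co (fun m : V' => (m : S)) Subtype.val_injective cv hcv {0} fun m => by simp [hp m]).trans
            (by simp)
      omega
    have hsq : ∀ m : V', qq (cv m) = 0 := fun m => by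
      rcases zmod_two_cases (qq (cv m)) with e | e
      · exact e
      · have e1 := h.r_sq (hcv m)
        rw [hV2' _ (hV'le m.2), e, zb_one] at e1
        exact absurd e1.symm h.z1
    have hbf : qq (cv p + cv r) = 0 := by
      rw [← h.r_unique (hcv (p * r)) (h.r_mul (hcv p) (hcv r))]; exact hsq _
    let inc : Q' →* N := Subgroup.inclusion hQ'N
    let φ : Q' →* Equiv.Perm V4 := h.psi.comp inc
    have hfixd : ∀ (y : Q') {d : S} {u : V4}, d ∈ Q' → R z i₁ j₁ i₂ j₂ d u → φ y u = u := by
      intro y d u hd hu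
      obtain ⟨e, he⟩ := hQ'c _ y.2 _ hd
      refine h.r_unique (h.psi_spec (inc y) hu) ?_
      show R z i₁ j₁ i₂ j₂ ((y : S) * d * (y : S)⁻¹) u
      rw [he, mul_assoc _ (zb z e), ← h.zb_comm, ← mul_assoc, mul_inv_cancel_right]
      exact h.r_zmul _ hu
    have hr2 : Nat.card φ.range ≤ 2 := card_range_le_two φ fun x y hx hy =>
      eq_of_plane (h.psi_mem _) (h.psi_mem _) hx hy (hsq p) hp0 (hsq r) hbf hr0 hrp (hfixd x (hVQ' p.2) (hcv p))
        (hfixd x (hVQ' r.2) (hcv r)) (hfixd y (hVQ' p.2) (hcv p)) (hfixd y (hVQ' r.2) (hcv r))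
    have hker : Nat.card φ.ker ≤ 8 := by
      have hmem : ∀ d : φ.ker, (d.1 : S) ∈ Q := fun d => (h.psi_eq_one_iff _).1 d.2
      choose cd hcd using fun d : φ.ker => h.r_exists (hmem d)
      have hne : Nat.card φ.range ≠ 1 := by
        intro e1
        have hle' : Q' ≤ Q := fun y hy => (h.psi_eq_one_iff (inc ⟨y, hy⟩)).1 (by
          have : φ ⟨y, hy⟩ ∈ φ.range := ⟨_, rfl⟩
          rwa [Subgroup.card_eq_one.1 e1, mem_bot] at this)
        have heq : Q' = Q := eq_of_le_of_card_ge hle' (by
          rw [Nat.card_congr (Q.equivMapOfInjective (MulAut.conj g).toMonoidHom (MulAut.conj g).injective).toEquiv])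
        refine hg (mem_normalizer_iff.2 fun y => ⟨fun hy => heq ▸ ⟨y, hy, rfl⟩, fun hy => ?_⟩)
        obtain ⟨w, hw, hwe⟩ : g * y * g⁻¹ ∈ Q' := heq.symm ▸ hy
        have : w = y := (MulAut.conj g).injective hwe
        exact this ▸ hw
      obtain ⟨x, hx⟩ : ∃ x, φ x ≠ 1 := by
        by_contra hc
        push Not at hc
        exact hne (Subgroup.card_eq_one.2 (eq_bot_iff.2 (by rintro _ ⟨b, rfl⟩; exact mem_bot.2 (hc b))))
      obtain ⟨gx, hgx⟩ := exists_iso (h.psi_mem (inc x))
      have hall : ∀ d, cd d = 0 ∨ cd d = cv p ∨ cd d = cv r ∨ cd d = cv p + cv r := by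
        intro d
        by_contra hc
        push Not at hc
        obtain ⟨c1, c2, c3, c4⟩ := hc
        exact hx (Equiv.ext fun v => (hgx v).trans (plane_plus _ (hsq p) hp0 _ (hsq r) hbf hr0 hrp gx
          ((hgx _).symm.trans (hfixd x (hVQ' p.2) (hcv p))) ((hgx _).symm.trans (hfixd x (hVQ' r.2) (hcv r))) (cd d)
          ((hgx _).symm.trans (hfixd x d.1.2 (hcd d))) c1 c2 c3 c4 v))
      have hmem' : ∀ d, cd d ∈ ({0, cv p, cv r, cv p + cv r} : Finset V4) := fun d => by
        rcases hall d with e | e | e | e <;> simp [e]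
      exact (card_le_of_co (fun d : φ.ker => (d.1 : S)) (fun a b e => Subtype.ext (Subtype.ext e)) cd hcd _ hmem').trans
        (Nat.mul_le_mul_left 2 Finset.card_le_four)
    have h1 := φ.ker.card_mul_index
    rw [Subgroup.index_ker, ← Nat.card_congr (Q.equivMapOfInjective (MulAut.conj g).toMonoidHom (MulAut.conj g).injective).toEquiv,
      h.hQ32] at h1
    have := Nat.mul_le_mul hker hr2
    omega
  obtain ⟨w, hwn, hwN⟩ : ∃ w, w ∈ Subgroup.normalizer (N : Set S) ⊓ (N ⊔ V') ∧ w ∉ N := by
    have hlt : N.subgroupOf (N ⊔ V') < ⊤ := lt_top_iff_ne_top.2 fun e => hVN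
      (le_sup_right.trans (Subgroup.subgroupOf_eq_top.1 e))
    haveI : Group.IsNilpotent ↥(N ⊔ V') := (h.hS.to_subgroup _).isNilpotent
    obtain ⟨w, hw, hwn⟩ := SetLike.exists_of_lt (Group.normalizerCondition_of_isNilpotent _ hlt)
    refine ⟨w, ⟨mem_normalizer_iff.2 fun y => ?_, w.2⟩, hwn⟩
    constructor
    · intro hy
      exact (mem_normalizer_iff.1 hw ⟨y, le_sup_left (b := V') hy⟩).1 hy
    · intro hy
      have hyS : y ∈ N ⊔ V' := by
        have := mul_mem (mul_mem (inv_mem w.2) (le_sup_left (b := V') hy)) w.2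
        simpa [mul_assoc] using this
      exact (mem_normalizer_iff.1 hw ⟨y, hyS⟩).2 hy
  haveI := hV'n
  obtain ⟨n, hn, v, hv, hnv⟩ := Subgroup.mem_sup_of_normal_right.1 hwn.2
  have hvN : v ∈ Subgroup.normalizer (N : Set S) := by
    have := mul_mem (inv_mem (Subgroup.le_normalizer hn)) hwn.1
    rwa [← hnv, inv_mul_cancel_left] at this
  refine hwN (hnv ▸ mul_mem hn ?_)
  rw [hN, mem_normalizer_iff]
  have key : ∀ e ∈ Q, v * e * v⁻¹ ∈ Q := by
    intro e he
    have h1 : v * e * v⁻¹ * e⁻¹ ∈ V' := by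
      have := mul_mem hv (hV'n.conj_mem _ (inv_mem hv) e)
      rwa [show v * (e * v⁻¹ * e⁻¹) = v * e * v⁻¹ * e⁻¹ by group] at this
    have h2 : v * e * v⁻¹ * e⁻¹ ∈ N := mul_mem ((mem_normalizer_iff.1 hvN e).1 (hQN he)) (inv_mem (hQN he))
    have := mul_mem (hWQ ⟨h1, h2⟩) he
    rwa [inv_mul_cancel_right] at this
  intro e
  refine ⟨key e, fun he => ?_⟩
  have hvv : v⁻¹ = v := inv_eq_of_mul_eq_one_right (hV2' v (hV'le hv))
  have := key _ he
  rwa [hvv, show v * (v * e * v) * v = v * v * e * (v * v) by group, hV2' v (hV'le hv), one_mul, mul_one] at this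

/-- The sectional rank is at most four. -/
theorem sectional_rank : Cfsg.SectionalPRankLE 2 4 S := by
  by_cases hn : Q.Normal
  · intro H N _ A hA hexp
    let π := QuotientGroup.mk' N
    let K : Subgroup S := (A.comap π).map H.subtype
    let e := (A.comap π).equivMapOfInjective H.subtype H.subtype_injective
    let f : K →* A := (π.subgroupComap A).comp e.symm.toMonoidHom
    have hf : Function.Surjective f :=
      (MonoidHom.subgroupComap_surjective_of_surjective π A (QuotientGroup.mk'_surjective N)).comp e.symm.surjective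
    exact h.card_le_of_normal hn K f hf fun v => Subtype.ext (by simpa using hexp v.1 v.2)
  · exact MacWilliams.sectional_rank_le_four h.hS (h.noEight_of_not_normal hn)

end Setup

end CfsgLib.ExtraRank
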